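import Groth.Agent.MultTorusLib.Main

/-!
The unique maximal torus of a group of multiplicative type.
-/

set_option autoImplicit false
set_option backward.isDefEq.respectTransparency false

noncomputable section

universe u

open CategoryTheory CategoryTheory.Limits MonoidalCategory CartesianMonoidalCategory AlgebraicGeometry
open scoped MonObj

namespace Groth.Agent.MultTorus

variable {S : Scheme.{u}}

/-- Tori, over any base change, factor through the torus. -/
theorem exists_factor_bc {H : Over S} [GrpObj H] {S' : Scheme.{u}} (q : S' ⟶ S) {R : Over S'} [GrpObj R]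
    (hR : Red.IsTorus R) (u : R ⟶ Red.bc q H) [IsMonHom u] :
    ∃ z : R ⟶ Red.bc q (torus H), z ≫ (Over.pullback q).map (torIncl H) = u :=
  exists_lift_bc q u (torIdeal_le q (domPow_of_isTorus hR) u)

/-- Tori mapping to the group factor through the torus. -/
theorem exists_factor {H : Over S} [GrpObj H] {R : Over S} [GrpObj R] (hR : Red.IsTorus R) (u : R ⟶ H)
    [IsMonHom u] : ∃ z : R ⟶ torus H, z ≫ torIncl H = u := by
  refine exists_lift u (iSup_le fun n => ?_)
  calc Scheme.Hom.ker ((𝟙 H) ^ (n + 1)).left ≤ (u.left ≫ ((𝟙 H) ^ (n + 1)).left).ker :=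
        Scheme.Hom.le_ker_comp _ _
    _ = (((𝟙 R) ^ (n + 1)).left ≫ u.left).ker := by rw [← Over.comp_left, ← Over.comp_left, pow_id_comp]
    _ = u.left.ker := by rw [Scheme.Hom.ker_comp, domPow_of_isTorus hR n, Scheme.IdealSheafData.map_bot]

theorem exists_unique_maximalTorus {H : Over S} [GrpObj H] (hH : SGA3x.IsMultTypeFT H) :
    ∃ _ : GrpObj (torus H), IsMonHom (torIncl H) ∧ Red.IsMaximalTorus (torIncl H) := by
  haveI := MultEq.isAffineHom_of_isMultTypeFT hH
  obtain ⟨C⟩ := nonempty_charts_of_isMultTypeFT hH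
  obtain ⟨g, hg⟩ := exists_grpObj C
  refine ⟨g, hg, hg, inferInstance, isTorus_torus hH, ?_⟩
  intro s T' _ j _ _ f hT' hf
  haveI : PreservesLimitsOfSize.{0, 0} (Over.pullback (Red.geomPt s)) :=
    (Over.mapPullbackAdj _).rightAdjoint_preservesLimits
  haveI : Mono ((Over.pullback (Red.geomPt s)).map (torIncl H)) := inferInstance
  obtain ⟨z, hz⟩ := exists_factor_bc (Red.geomPt s) hT' j
  refine ⟨z, ?_, ?_⟩
  · rw [← cancel_mono ((Over.pullback (Red.geomPt s)).map (torIncl H)), Category.assoc, hz, hf, Category.id_comp]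
  · rw [← cancel_mono j, Category.assoc, hf, hz, Category.id_comp]

end Groth.Agent.MultTorus
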