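import Groth.Agent.MultLiftLib.KerBot
import Groth.Agent.FreeActLib.Algebra
import Groth.Agent.DiagRepLib.Scheme
import Groth.Agent.OrbitLib.ToAffine
import Mathlib.GroupTheory.FiniteAbelian.Basic

/-!
Powers, torsion-free quotients of diagonalisable groups.
-/

set_option autoImplicit false
set_option backward.isDefEq.respectTransparency false

noncomputable section

universe u

open CategoryTheory MonoidalCategory CartesianMonoidalCategory AlgebraicGeometry CoactBr WithConv
open scoped MonObj TensorProduct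

namespace Groth.Agent.MultTorus

open Groth.Agent.FreeAct (DA)

attribute [local instance] CoactBr.braidedAlgSpecOf

variable {R : Type u} [CommRing R] {M P : Type} [AddCommGroup M] [AddCommGroup P]

/-- The algebra map given by a map of characters. -/
abbrev mapChar (φ : M →+ P) : DA R M →ₐ[R] DA R P :=
  MonoidAlgebra.mapDomainAlgHom R R (AddMonoidHom.toMultiplicative φ)

theorem mapChar_single (φ : M →+ P) (x : Multiplicative M) (r : R) :
    mapChar φ (MonoidAlgebra.single x r) = MonoidAlgebra.single (AddMonoidHom.toMultiplicative φ x) r := by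
  simp [mapChar]

theorem isMonHom_mapChar (φ : M →+ P) : IsMonHom (pt (R := R) (mapChar φ)) :=
  SekSuwa.isMonHom_specHom (MonoidAlgebra.mapDomainBialgHom (R := R) (AddMonoidHom.toMultiplicative φ))

theorem pow_pt_id (n : ℕ) :
    (𝟙 (sp R (DA R M))) ^ n = pt (mapChar (R := R) (n • AddMonoidHom.id M)) := by
  induction n with
  | zero =>
    rw [pow_zero, ← DiagRep.pt_one]
    refine congrArg pt (MonoidAlgebra.algHom_ext (fun x => ?_) (Subsingleton.elim _ _))
    simp [mapChar, MonoidAlgebra.one_def]
  | succ n ih =>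
    have h1 : (𝟙 (sp R (DA R M))) = pt (AlgHom.id R (DA R M)) := by
      apply Over.OverMorphism.ext
      show _ = Spec.map (CommRingCat.ofHom (RingHom.id _))
      rw [CommRingCat.ofHom_id, Spec.map_id]
      rfl
    rw [pow_succ, ih, h1, DiagRep.pt_mul_conv]
    refine congrArg pt (MonoidAlgebra.algHom_ext (fun x => ?_) (Subsingleton.elim _ _))
    show (toConv (mapChar (R := R) (n • AddMonoidHom.id M)) * toConv (AlgHom.id R (DA R M)) :
        WithConv (DA R M →ₐ[R] DA R M)) (MonoidAlgebra.single x 1) = _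
    rw [AlgHom.convMul_apply]
    simp [mapChar, MonoidAlgebra.single_mul_single]
    rw [pow_succ]

/-- Powers are schematically dominant on a diagonalisable torus. -/
theorem ker_pow_eq_bot (n : ℕ) (hP : Function.Injective fun x : P => (n + 1) • x) :
    Scheme.Hom.ker ((𝟙 (sp R (DA R P))) ^ (n + 1)).left = ⊥ := by
  rw [pow_pt_id]
  refine _root_.OrbitLib.ToAffine.ker_SpecMap_eq_bot (CommRingCat.ofHom (mapChar (R := R) ((n + 1) • AddMonoidHom.id P)).toRingHom) ?_
  exact MonoidAlgebra.mapDomain_injective hP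

/-- The free quotient of a finitely generated group, with a quasi-inverse. -/
theorem exists_free_quot [AddGroup.FG M] :
    ∃ (r : ℕ) (π : M →+ (Fin r → ℤ)) (g : (Fin r → ℤ) →+ M) (e : ℕ), e ≠ 0 ∧ Function.Surjective π ∧
      g.comp π = e • AddMonoidHom.id M := by
  classical
  obtain ⟨r, σ, hσ, p, hp, k, ⟨f⟩⟩ := AddCommGroup.equiv_free_prod_directSum_zmod M
  let F : (Fin r →₀ ℤ) ≃+ (Fin r → ℤ) := Finsupp.linearEquivFunOnFinite ℤ ℤ (Fin r) |>.toAddEquiv
  let e : ℕ := ∏ i, p i ^ k i
  refine ⟨r, F.toAddMonoidHom.comp ((AddMonoidHom.fst _ _).comp f.toAddMonoidHom),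
    e • (f.symm.toAddMonoidHom.comp ((AddMonoidHom.inl _ _).comp F.symm.toAddMonoidHom)), e,
    Finset.prod_ne_zero_iff.2 fun i _ => pow_ne_zero _ (hp i).ne_zero, ?_, ?_⟩
  · intro y
    exact ⟨f.symm (F.symm y, 0), by simp⟩
  · ext m
    have h0 : e • (f m).2 = 0 := by
      refine DFunLike.ext _ _ fun i => ?_
      show e • (f m).2 i = 0
      rw [nsmul_eq_mul, show ((e : ℕ) : ZMod (p i ^ k i)) = 0 from
        (ZMod.natCast_eq_zero_iff _ _).2 (Finset.dvd_prod_of_mem _ (Finset.mem_univ i)), zero_mul]
    apply f.injective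
    simp only [AddMonoidHom.coe_comp, Function.comp_apply, AddMonoidHom.smul_apply, AddEquiv.coe_toAddMonoidHom,
      map_nsmul, AddEquiv.apply_symm_apply, AddEquiv.symm_apply_apply, AddMonoidHom.id_apply]
    exact Prod.ext rfl (by simpa using h0.symm)

end Groth.Agent.MultTorus
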