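import Groth.Agent.MultTorusLib.Diag
import Groth.Agent.MultLiftLib.Eq
import Groth.Agent.S4667

/-!
Ideals along flat covering families; charts of groups of multiplicative type; power maps.
-/

set_option autoImplicit false
set_option backward.isDefEq.respectTransparency false

noncomputable section

universe u v

open CategoryTheory CategoryTheory.Limits MonoidalCategory CartesianMonoidalCategory AlgebraicGeometry CoactBr
open scoped MonObj

namespace Groth.Agent.MultTorus

open Groth.Agent.FreeAct (DA)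

attribute [local instance] CoactBr.braidedAlgSpecOf

/-- An inclusion of ideals may be tested on a flat covering family. -/
theorem le_ker_of_cover {σ : Type u} {Z : σ → Scheme.{u}} {Y X : Scheme.{u}} (c : ∀ i, Z i ⟶ Y)
    (hc : ∀ i, Flat (c i)) (hsurj : ∀ y : Y, ∃ i z, (c i) z = y) (y : Y ⟶ X) (I : X.IdealSheafData)
    (h : ∀ i, I ≤ (c i ≫ y).ker) : I ≤ y.ker := by
  haveI : Flat (Sigma.desc c) := IsZariskiLocalAtSource.sigmaDesc hc
  haveI : Surjective (Sigma.desc c) := ⟨fun x => by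
    obtain ⟨i, z, hz⟩ := hsurj x
    exact ⟨(Sigma.ι Z i) z, by rw [← Scheme.Hom.comp_apply, Sigma.ι_desc, hz]⟩⟩
  let l : ∀ i, Z i ⟶ I.subscheme := fun i =>
    IsClosedImmersion.lift I.subschemeι (c i ≫ y) (by rw [Scheme.IdealSheafData.ker_subschemeι]; exact h i)
  have hl : Sigma.desc l ≫ I.subschemeι = Sigma.desc c ≫ y := by
    refine Sigma.hom_ext _ _ fun i => ?_
    rw [Sigma.ι_desc_assoc, Sigma.ι_desc_assoc, IsClosedImmersion.lift_fac]
  have h1 : I ≤ (Sigma.desc c ≫ y).ker := by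
    rw [← hl]
    exact (Scheme.IdealSheafData.ker_subschemeι I).ge.trans (Scheme.Hom.le_ker_comp _ _)
  rwa [Scheme.Hom.ker_comp, MultLift.ker_eq_bot_of_flat_surjective, Scheme.IdealSheafData.map_bot] at h1

variable {S : Scheme.{u}}

/-- Charts of an `S`-group by diagonalisable groups. -/
structure Charts (H : Over S) [GrpObj H] (P : ∀ (M : Type), AddCommGroup M → Prop) where
  σ : Type u
  A : σ → Type u
  ring : ∀ i, CommRing (A i)
  M : σ → Type
  grp : ∀ i, AddCommGroup (M i)
  hM : ∀ i, P (M i) (grp i)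
  p : ∀ i, Spec (CommRingCat.of (A i)) ⟶ S
  flat : ∀ i, Flat (p i)
  surj : ∀ s : S, ∃ i x, (p i) x = s
  w : ∀ i, sp (A i) (DA (A i) (M i)) ≅ Red.bc (p i) H
  hw : ∀ i, IsMonHom (w i).hom

attribute [instance] Charts.ring Charts.grp

theorem nonempty_charts {H : Over S} [GrpObj H] {S' : Scheme.{u}} (f : S' ⟶ S) [Flat f] [Surjective f]
    (P : ∀ (M : Type), AddCommGroup M → Prop)
    (h : ∀ s' : S', ∃ U : S'.Opens, s' ∈ U ∧ ∃ (M : Type) (i : AddCommGroup M), P M i ∧
      Nonempty (Grp.mk (Red.bc (U.ι ≫ f) H) ≅ Grp.mk (Red.DS (U : Scheme.{u}) M))) :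
    Nonempty (Charts H P) := by
  choose U hU M iM hP hiso using h
  have hV : ∀ s : S', ∃ V : S'.Opens, IsAffineOpen V ∧ s ∈ V ∧ V ≤ U s := fun s => by
    obtain ⟨V, h1, h2, h3⟩ := (AlgebraicGeometry.exists_isAffineOpen_mem_and_subset (hU s))
    exact ⟨V, h1, h2, h3⟩
  choose V hVa hVm hVU using hV
  have hw : ∀ s, ∃ w : sp Γ(S', V s) (DA Γ(S', V s) (M s)) ≅ Red.bc ((hVa s).fromSpec ≫ f) H, IsMonHom w.hom :=
    fun s => MultLift.exists_split_iso (Classical.choice (hiso s)) ((hVa s).isoSpec.inv ≫ S'.homOfLE (hVU s)) _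
      (by rw [Category.assoc, Scheme.homOfLE_ι_assoc, IsAffineOpen.isoSpec_inv_ι_assoc])
  choose w hw using hw
  refine ⟨{
    σ := S', A := fun s => Γ(S', V s), ring := fun s => inferInstance, M := M, grp := iM, hM := hP,
    p := fun s => (hVa s).fromSpec ≫ f, flat := fun s => inferInstance, surj := fun s => ?_, w := w, hw := hw }⟩
  obtain ⟨s', hs'⟩ := f.surjective s
  obtain ⟨x, hx⟩ : s' ∈ Set.range (hVa s').fromSpec := by rw [(hVa s').range_fromSpec]; exact hVm s'
  exact ⟨s', x, (congrArg f hx).trans hs'⟩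

/-- The projection of a base change. -/
abbrev proj {S' : Scheme.{u}} (q : S' ⟶ S) (X : Over S) : (Red.bc q X).left ⟶ X.left :=
  pullback.fst X.hom q

theorem map_left_proj {S' : Scheme.{u}} (q : S' ⟶ S) {X Y : Over S} (j : X ⟶ Y) :
    ((Over.pullback q).map j).left ≫ proj q Y = proj q X ≫ j.left :=
  pullback.lift_fst _ _ _

theorem exists_proj_eq {H : Over S} [GrpObj H] {P : ∀ (M : Type), AddCommGroup M → Prop} (C : Charts H P)
    (X : Over S) (x : X.left) : ∃ i z, (proj (C.p i) X) z = x := by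
  obtain ⟨i, a, ha⟩ := C.surj (X.hom x)
  obtain ⟨z, hz, -⟩ := Scheme.Pullback.exists_preimage_pullback x a ha.symm
  exact ⟨i, z, hz⟩

/-- Base change commutes with power maps. -/
theorem map_pow_id {S' : Scheme.{u}} (q : S' ⟶ S) (H : Over S) [GrpObj H] (n : ℕ) :
    (Over.pullback q).map ((𝟙 H) ^ n) = (𝟙 (Red.bc q H)) ^ n :=
  ((map_pow (Over.pullback q).homMonoidHom (𝟙 H) n).trans
    (congrArg (· ^ n) ((Over.pullback q).map_id H)) :)

theorem pow_id_comp {X Y : Over S} [GrpObj X] [GrpObj Y] (u : X ⟶ Y) [IsMonHom u] (n : ℕ) :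
    ((𝟙 X) ^ n : X ⟶ X) ≫ u = u ≫ ((𝟙 Y) ^ n : Y ⟶ Y) := by
  rw [MonObj.pow_comp, MonObj.comp_pow, Category.id_comp, Category.comp_id]

theorem isPullback_map_left {S' : Scheme.{u}} (q : S' ⟶ S) {X Y : Over S} (j : X ⟶ Y) :
    IsPullback (proj q X) ((Over.pullback q).map j).left j.left (proj q Y) := by
  refine IsPullback.of_bot ?_ (map_left_proj q j).symm (IsPullback.of_hasPullback Y.hom q)
  rw [show ((Over.pullback q).map j).left ≫ pullback.snd Y.hom q = pullback.snd X.hom q from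
    Over.w ((Over.pullback q).map j), Over.w j]
  exact IsPullback.of_hasPullback X.hom q

/-- The kernel of a base changed morphism. -/
theorem ker_map_left {S' : Scheme.{u}} (q : S' ⟶ S) [Flat q] {X Y : Over S} (j : X ⟶ Y) [QuasiCompact j.left] :
    ((Over.pullback q).map j).left.ker = j.left.ker.comap (proj q Y) := by
  haveI : Flat (proj q Y) := MorphismProperty.pullback_fst _ _ ‹_›
  have e := Groth.Agent.S4667.result j.left (proj q Y)
  rw [← e, ← (isPullback_map_left q j).isoPullback_hom_snd, Scheme.Hom.ker_comp_of_isIso]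

end Groth.Agent.MultTorus
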