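import Groth.Agent.MultLiftLib.Eq

/-!
Split charts of tori.
-/

set_option autoImplicit false

noncomputable section

universe u

open CategoryTheory CategoryTheory.Limits MonoidalCategory CartesianMonoidalCategory AlgebraicGeometry CoactBr
open scoped MonObj

namespace Groth.Agent.MultTorus

open Groth.Agent.FreeAct (DA)

attribute [local instance] CoactBr.braidedAlgSpecOf

variable {S : Scheme.{u}}

/-- The torus of a chart splits. -/
theorem nonempty_iso_DS {T : Over S} [GrpObj T] {A : Type u} [CommRing A] {P : Type} [AddCommGroup P]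
    (p : Spec (CommRingCat.of A) ⟶ S) (e : sp A (DA A P) ≅ Red.bc p T) [IsMonHom e.hom]
    {U : Scheme.{u}} (h : U ⟶ Spec (CommRingCat.of A)) (g : U ⟶ S) (hg : h ≫ p = g) :
    Nonempty (Grp.mk (Red.bc g T) ≅ Grp.mk (Red.DS U P)) := by
  obtain ⟨w₀, hw₀, -⟩ := TorusField.exists_DS_iso A P
  let c₁ : Red.bc h (Red.bc p T) ≅ Red.bc g T := ActBC.bcCompIso h p T hg
  let c₂ : Red.bc h (Red.DS (Spec (CommRingCat.of A)) P) ≅ Red.DS U P :=
    ActBC.bcCompIso h _ _ (specULiftZIsTerminal.hom_ext _ _)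
  haveI : IsMonHom c₁.hom := ActBC.bcCompIso_isMonHom _ _ _
  haveI : IsMonHom c₂.hom := ActBC.bcCompIso_isMonHom _ _ _
  let d : Red.bc p T ≅ Red.DS (Spec (CommRingCat.of A)) P := e.symm ≪≫ w₀
  haveI : IsMonHom d.hom := inferInstanceAs (IsMonHom (e.inv ≫ w₀.hom))
  haveI : IsMonHom (M := Red.bc h (Red.bc p T)) (N := Red.bc h (Red.DS (Spec (CommRingCat.of A)) P))
      ((Over.pullback h).map d.hom) := DiagRep.isMonHom_bc_map h d.hom
  let E : Red.bc g T ≅ Red.DS U P := c₁.symm ≪≫ (Over.pullback h).mapIso d ≪≫ c₂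
  haveI : IsMonHom E.hom := inferInstanceAs (IsMonHom (c₁.inv ≫ (Over.pullback h).map d.hom ≫ c₂.hom))
  exact ⟨Grp.mkIso E (IsMonHom.one_hom (f := E.hom)) (IsMonHom.mul_hom (f := E.hom))⟩

end Groth.Agent.MultTorus
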