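import Groth.Agent.MultTorusLib.Torus
import Groth.Agent.MultTorusLib.DS
import Groth.Agent.MultEqLib.Props

/-!
The maximal torus: group structure, universality, descent data.
-/

set_option autoImplicit false
set_option backward.isDefEq.respectTransparency false
set_option maxHeartbeats 1000000

noncomputable section

universe u

open CategoryTheory CategoryTheory.Limits MonoidalCategory CartesianMonoidalCategory AlgebraicGeometry CoactBr
open scoped MonObj

namespace Groth.Agent.MultTorus

open Groth.Agent.FreeAct (DA)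

attribute [local instance] CoactBr.braidedAlgSpecOf

/-- The predicate of finite generation. -/
abbrev FGP : ∀ (M : Type), AddCommGroup M → Prop := fun M _ => AddGroup.FG M

variable {S : Scheme.{u}}

theorem domPow_of_isTorus {R : Over S} [GrpObj R] (hR : Red.IsTorus R) : DomPow R := by
  obtain ⟨S', f, hf, hs, -, h⟩ := hR
  haveI := hf
  haveI := hs
  obtain ⟨C⟩ := nonempty_charts f (fun M i => ∀ n : ℕ, Function.Injective fun x : M => (n + 1) • x)
    (fun s' => by
      obtain ⟨U, hU, r, hr⟩ := h s'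
      exact ⟨U, hU, Fin r → ℤ, inferInstance, injective_nsmul_fin r, hr⟩)
  exact domPow_of_charts C C.hM

theorem nonempty_charts_of_isMultTypeFT {H : Over S} [GrpObj H] (hH : SGA3x.IsMultTypeFT H) :
    Nonempty (Charts H FGP) := by
  obtain ⟨S', f, hf, hs, -, h⟩ := hH
  haveI := hf
  haveI := hs
  exact nonempty_charts f FGP h

/-- A morphism lands in the torus when it does so on every chart. -/
theorem exists_lift_of_charts {H : Over S} [GrpObj H] (C : Charts H FGP) {Y : Over S} (y : Y ⟶ H)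
    (h : ∀ i, ∃ z, z ≫ (Over.pullback (C.p i)).map (torIncl H) = (Over.pullback (C.p i)).map y) :
    ∃ z : Y ⟶ torus H, z ≫ torIncl H = y := by
  refine exists_lift y (le_ker_of_cover (fun i => proj (C.p i) Y)
    (fun i => MorphismProperty.pullback_fst _ _ (C.flat i)) (exists_proj_eq C Y) y.left (torIdeal H) fun i => ?_)
  obtain ⟨z, hz⟩ := h i
  rw [← map_left_proj, ← hz, Over.comp_left, Category.assoc, map_left_proj, ← Category.assoc]
  exact (ker_torIncl H).ge.trans (Scheme.Hom.le_ker_comp _ _)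

theorem exists_grpObj {H : Over S} [GrpObj H] [IsAffineHom H.hom] (C : Charts H FGP) :
    ∃ _ : GrpObj (torus H), IsMonHom (torIncl H) := by
  have hch : ∀ i, ∃ (r : ℕ) (k : sp (C.A i) (DA (C.A i) (Fin r → ℤ)) ⟶ Red.bc (C.p i) H)
      (a : sp (C.A i) (DA (C.A i) (Fin r → ℤ)) ≅ Red.bc (C.p i) (torus H)),
      IsMonHom k ∧ a.hom ≫ (Over.pullback (C.p i)).map (torIncl H) = k := fun i => by
    haveI := C.hw i
    haveI := C.flat i
    haveI : AddGroup.FG (C.M i) := C.hM i
    exact exists_chart (C.p i) (C.w i)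
  choose r k a hk ha using hch
  have hinv : ∀ i, (a i).inv ≫ k i = (Over.pullback (C.p i)).map (torIncl H) := fun i => by
    rw [← ha i, Iso.inv_hom_id_assoc]
  refine SubDesc.exists_grpObj_of_mono (torIncl H) (exists_lift_of_charts C _ fun i => ?_)
    (exists_lift_of_charts C _ fun i => ?_) (exists_lift_of_charts C _ fun i => ?_)
  · haveI := hk i
    let P := Over.pullback (C.p i)
    refine ⟨((P.map (fst (torus H) (torus H)) ≫ (a i).inv) * (P.map (snd (torus H) (torus H)) ≫ (a i).inv)) ≫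
      (a i).hom, ?_⟩
    rw [Category.assoc, ha i, MonObj.mul_comp, Category.assoc, Category.assoc, hinv, ← Functor.map_comp,
      ← Functor.map_comp, ← Functor.map_mul]
  · haveI := hk i
    refine ⟨1 ≫ (a i).hom, ?_⟩
    rw [Category.assoc, ha i, MonObj.one_comp, Functor.map_one]
  · haveI := hk i
    refine ⟨((a i).inv)⁻¹ ≫ (a i).hom, ?_⟩
    rw [Category.assoc, ha i, GrpObj.inv_comp, hinv, Functor.map_inv']

theorem isTorus_torus {H : Over S} [GrpObj H] [IsAffineHom H.hom] (hH : SGA3x.IsMultTypeFT H)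
    [GrpObj (torus H)] [IsMonHom (torIncl H)] : Red.IsTorus (torus H) := by
  obtain ⟨S', f, hf, hs, hcov, h⟩ := hH
  haveI := hf
  refine ⟨S', f, hf, hs, hcov, fun s' => ?_⟩
  obtain ⟨U, hU, M, iM, hM, ⟨e⟩⟩ := h s'
  haveI : AddGroup.FG M := hM
  obtain ⟨V, hVa, hVm, hVU⟩ := AlgebraicGeometry.exists_isAffineOpen_mem_and_subset hU
  obtain ⟨w, hw⟩ := MultLift.exists_split_iso e (hVa.isoSpec.inv ≫ S'.homOfLE hVU) (hVa.fromSpec ≫ f)
    (by rw [Category.assoc, Scheme.homOfLE_ι_assoc, IsAffineOpen.isoSpec_inv_ι_assoc])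
  obtain ⟨r, k, a, hk, ha⟩ := exists_chart (hVa.fromSpec ≫ f) w
  haveI := hk
  haveI : IsMonHom a.hom := by
    haveI := DiagRep.isMonHom_bc_map (hVa.fromSpec ≫ f) (torIncl H)
    haveI : IsMonHom (a.hom ≫ (Over.pullback (hVa.fromSpec ≫ f)).map (torIncl H)) := by rw [ha]; exact hk
    haveI : PreservesLimitsOfSize.{0, 0} (Over.pullback (hVa.fromSpec ≫ f)) :=
      (Over.mapPullbackAdj _).rightAdjoint_preservesLimits
    haveI : Mono ((Over.pullback (hVa.fromSpec ≫ f)).map (torIncl H)) := inferInstance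
    exact DiagRep.isMonHom_of_comp_mono a.hom ((Over.pullback (hVa.fromSpec ≫ f)).map (torIncl H))
  exact ⟨V, hVm, r, nonempty_iso_DS (hVa.fromSpec ≫ f) a hVa.isoSpec.hom _
    (by rw [IsAffineOpen.isoSpec_hom_fromSpec_assoc])⟩

end Groth.Agent.MultTorus
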