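import Groth.Agent.MultTorusLib.Cover
import Groth.Agent.SubDescLib.Main
import Groth.Prelude.Def_SGA3x

/-!
The maximal torus of a group of multiplicative type.
-/

set_option autoImplicit false
set_option backward.isDefEq.respectTransparency false
set_option maxHeartbeats 1000000

noncomputable section

universe u

open CategoryTheory CategoryTheory.Limits MonoidalCategory CartesianMonoidalCategory AlgebraicGeometry CoactBr
open scoped MonObj

namespace Groth.Agent.MultTorus

open Groth.Agent.FreeAct (DA)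

attribute [local instance] CoactBr.braidedAlgSpecOf

/-- The condition that all powers are schematically dominant. -/
def DomPow {S : Scheme.{u}} (R : Over S) [GrpObj R] : Prop :=
  ∀ n : ℕ, Scheme.Hom.ker ((𝟙 R) ^ (n + 1)).left = ⊥

variable {S : Scheme.{u}}

theorem surjective_mapChar {R : Type u} [CommRing R] {M P : Type} [AddCommGroup M] [AddCommGroup P] (φ : M →+ P)
    (hφ : Function.Surjective φ) : Function.Surjective (mapChar (R := R) φ) := fun x => by
  induction x using MonoidAlgebra.induction_linear with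
  | zero => exact ⟨0, map_zero _⟩
  | add x y hx hy =>
    obtain ⟨a, rfl⟩ := hx
    obtain ⟨b, rfl⟩ := hy
    exact ⟨a + b, map_add _ _ _⟩
  | single m r =>
    obtain ⟨a, ha⟩ := hφ (Multiplicative.toAdd m)
    exact ⟨MonoidAlgebra.single (Multiplicative.ofAdd a) r, by simp [mapChar, ha]⟩

theorem injective_nsmul_fin (r n : ℕ) : Function.Injective fun x : Fin r → ℤ => (n + 1) • x := fun x y h => by
  funext i
  have e := congrFun h i
  simp only [Pi.smul_apply, nsmul_eq_mul] at e
  exact mul_left_cancel₀ (by positivity) e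

theorem pow_id_conj {X Y : Over S} [GrpObj X] [GrpObj Y] (e : X ≅ Y) [IsMonHom e.hom] (n : ℕ) :
    ((𝟙 Y) ^ n : Y ⟶ Y) = e.inv ≫ ((𝟙 X) ^ n : X ⟶ X) ≫ e.hom := by
  rw [pow_id_comp, Iso.inv_hom_id_assoc]

theorem DomPow.of_iso {X Y : Over S} [GrpObj X] [GrpObj Y] (e : X ≅ Y) [IsMonHom e.hom] (h : DomPow X) :
    DomPow Y := fun n => by
  rw [pow_id_conj e, Over.comp_left, Over.comp_left, Scheme.Hom.ker_comp_of_isIso, Scheme.Hom.ker_comp, h n,
    Scheme.IdealSheafData.map_bot, Scheme.Hom.ker_eq_bot_of_isIso]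

theorem domPow_sp {A : Type u} [CommRing A] {P : Type} [AddCommGroup P]
    (hP : ∀ n, Function.Injective fun x : P => (n + 1) • x) : DomPow (sp A (DA A P)) :=
  fun n => ker_pow_eq_bot n (hP n)

theorem domPow_of_charts {R : Over S} [GrpObj R] {Q : ∀ (M : Type), AddCommGroup M → Prop} (C : Charts R Q)
    (hP : ∀ i n, Function.Injective fun x : C.M i => (n + 1) • x) : DomPow R := by
  intro n
  have hflat : ∀ i, Flat (proj (C.p i) R) := fun i => MorphismProperty.pullback_fst _ _ (C.flat i)
  have key := le_ker_of_cover (fun i => proj (C.p i) R) hflat (exists_proj_eq C R) (𝟙 R.left)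
    (Scheme.Hom.ker ((𝟙 R) ^ (n + 1)).left) fun i => ?_
  · exact eq_bot_iff.2 (key.trans (Scheme.Hom.ker_eq_bot_of_isIso (f := 𝟙 R.left)).le)
  haveI := C.hw i
  have hd := DomPow.of_iso (C.w i) (domPow_sp (hP i)) n
  rw [Category.comp_id]
  calc Scheme.Hom.ker ((𝟙 R) ^ (n + 1)).left ≤ (proj (C.p i) R ≫ ((𝟙 R) ^ (n + 1)).left).ker :=
        Scheme.Hom.le_ker_comp _ _
    _ = (((𝟙 (Red.bc (C.p i) R)) ^ (n + 1)).left ≫ proj (C.p i) R).ker := by
        rw [← map_pow_id, map_left_proj]
    _ = (proj (C.p i) R).ker := by rw [Scheme.Hom.ker_comp, hd, Scheme.IdealSheafData.map_bot]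

/-- The ideal of the maximal torus: the images of all power maps. -/
def torIdeal (H : Over S) [GrpObj H] : H.left.IdealSheafData :=
  ⨆ n : ℕ, Scheme.Hom.ker ((𝟙 H) ^ (n + 1)).left

theorem torIdeal_le {H : Over S} [GrpObj H] {S' : Scheme.{u}} (q : S' ⟶ S) {R : Over S'} [GrpObj R]
    (hR : DomPow R) (u : R ⟶ Red.bc q H) [IsMonHom u] : torIdeal H ≤ (u.left ≫ proj q H).ker := by
  refine iSup_le fun n => ?_
  have e : u.left ≫ proj q H ≫ ((𝟙 H) ^ (n + 1)).left =
      ((𝟙 R) ^ (n + 1)).left ≫ u.left ≫ proj q H := by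
    rw [← map_left_proj, map_pow_id, ← Over.comp_left_assoc, ← Over.comp_left_assoc, pow_id_comp]
  calc Scheme.Hom.ker ((𝟙 H) ^ (n + 1)).left ≤ ((u.left ≫ proj q H) ≫ ((𝟙 H) ^ (n + 1)).left).ker :=
        Scheme.Hom.le_ker_comp _ _
    _ = (((𝟙 R) ^ (n + 1)).left ≫ u.left ≫ proj q H).ker := by rw [Category.assoc, e]
    _ = (u.left ≫ proj q H).ker := by rw [Scheme.Hom.ker_comp, hR n, Scheme.IdealSheafData.map_bot]

/-- The maximal torus, as a closed subscheme. -/
def torus (H : Over S) [GrpObj H] : Over S := Over.mk ((torIdeal H).subschemeι ≫ H.hom)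

/-- Its inclusion. -/
def torIncl (H : Over S) [GrpObj H] : torus H ⟶ H := Over.homMk (torIdeal H).subschemeι rfl

instance (H : Over S) [GrpObj H] : IsClosedImmersion (torIncl H).left :=
  inferInstanceAs (IsClosedImmersion (torIdeal H).subschemeι)

theorem ker_torIncl (H : Over S) [GrpObj H] : (torIncl H).left.ker = torIdeal H :=
  Scheme.IdealSheafData.ker_subschemeι _

instance (H : Over S) [GrpObj H] : Mono (torIncl H) := by
  haveI : Mono ((Over.forget _).map (torIncl H)) := inferInstanceAs (Mono (torIncl H).left)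
  exact (Over.forget _).mono_of_mono_map ‹_›

/-- Lifting morphisms into the torus. -/
theorem exists_lift {H : Over S} [GrpObj H] {Y : Over S} (y : Y ⟶ H) (h : torIdeal H ≤ y.left.ker) :
    ∃ z : Y ⟶ torus H, z ≫ torIncl H = y := by
  refine ⟨Over.homMk (IsClosedImmersion.lift (torIncl H).left y.left (by rwa [ker_torIncl])) ?_, ?_⟩
  · show _ ≫ (torIncl H).left ≫ H.hom = _
    rw [IsClosedImmersion.lift_fac_assoc, Over.w y]
  · exact Over.OverMorphism.ext (IsClosedImmersion.lift_fac _ _ _)

/-- Lifting morphisms into the base changed torus. -/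
theorem exists_lift_bc {H : Over S} [GrpObj H] {S' : Scheme.{u}} (q : S' ⟶ S) {Y : Over S'}
    (y : Y ⟶ Red.bc q H) (h : torIdeal H ≤ (y.left ≫ proj q H).ker) :
    ∃ z : Y ⟶ Red.bc q (torus H), z ≫ (Over.pullback q).map (torIncl H) = y := by
  let adj := Over.mapPullbackAdj q
  obtain ⟨z, hz⟩ := exists_lift ((adj.homEquiv _ _).symm y) (by
    have : ((adj.homEquiv _ _).symm y).left = y.left ≫ proj q H := by
      rw [adj.homEquiv_counit]
      rfl
    rwa [this])
  refine ⟨adj.homEquiv _ _ z, ?_⟩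
  rw [← adj.homEquiv_naturality_right, hz, Equiv.apply_symm_apply]

/-- Over a chart the torus is the torus of the free quotient. -/
theorem exists_chart {H : Over S} [GrpObj H] [IsAffineHom H.hom] {A : Type u} [CommRing A] {M : Type}
    [AddCommGroup M] [AddGroup.FG M] (p : Spec (CommRingCat.of A) ⟶ S) [Flat p]
    (w : sp A (DA A M) ≅ Red.bc p H) [IsMonHom w.hom] :
    ∃ (r : ℕ) (k : sp A (DA A (Fin r → ℤ)) ⟶ Red.bc p H)
      (a : sp A (DA A (Fin r → ℤ)) ≅ Red.bc p (torus H)),
      IsMonHom k ∧ a.hom ≫ (Over.pullback p).map (torIncl H) = k := by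
  obtain ⟨r, π, g, e, he, hπ, hg⟩ := exists_free_quot (M := M)
  haveI := isMonHom_mapChar (R := A) π
  let k : sp A (DA A (Fin r → ℤ)) ⟶ Red.bc p H := pt (mapChar π) ≫ w.hom
  haveI : IsMonHom k := inferInstance
  haveI : IsClosedImmersion k.left := by
    haveI : IsClosedImmersion (pt (R := A) (mapChar π)).left :=
      IsClosedImmersion.spec_of_surjective (CommRingCat.ofHom (mapChar π).toRingHom)
        (surjective_mapChar (R := A) π hπ)
    show IsClosedImmersion ((pt (R := A) (mapChar π)).left ≫ w.hom.left)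
    infer_instance
  have hdom : DomPow (sp A (DA A (Fin r → ℤ))) := fun n => ker_pow_eq_bot n (injective_nsmul_fin r n)
  obtain ⟨a, ha⟩ := exists_lift_bc p k (torIdeal_le p hdom k)
  -- the torus factors through the subgroup of the chart
  obtain ⟨m, rfl⟩ : ∃ m, e = m + 1 := ⟨e - 1, by omega⟩
  haveI : IsAffineHom ((𝟙 H) ^ (m + 1) : H ⟶ H).left := by
    haveI : IsAffineHom (((𝟙 H) ^ (m + 1) : H ⟶ H).left ≫ H.hom) := by rw [Over.w]; infer_instance
    exact IsAffineHom.of_comp _ H.hom
  let j := (Over.pullback p).map (torIncl H)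
  have hle : k.left.ker ≤ j.left.ker := by
    have h1 : k.left.ker ≤ ((Over.pullback p).map ((𝟙 H) ^ (m + 1))).left.ker := by
      have e1 : ((𝟙 (Red.bc p H)) ^ (m + 1) : Red.bc p H ⟶ _) = w.inv ≫ pt (mapChar g) ≫ k := by
        rw [pow_id_conj w]
        refine congrArg (w.inv ≫ ·) ?_
        rw [pow_pt_id, ← Category.assoc, ← pt_comp]
        congr 2
        rw [← hg]
        exact MonoidAlgebra.algHom_ext (fun x => by simp [mapChar]) (Subsingleton.elim _ _)
      rw [map_pow_id, e1, ← Category.assoc, Over.comp_left]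
      exact Scheme.Hom.le_ker_comp _ _
    refine h1.trans ?_
    rw [ker_map_left, ker_map_left, ker_torIncl]
    exact Scheme.IdealSheafData.comap_mono _ (le_iSup (fun n => Scheme.Hom.ker ((𝟙 H) ^ (n + 1)).left) m)
  haveI : IsClosedImmersion j.left := by
    haveI : Flat (proj p H) := MorphismProperty.pullback_fst _ _ ‹_›
    exact MorphismProperty.of_isPullback (P := @IsClosedImmersion)
      (isPullback_map_left p (torIncl H)) inferInstance
  let b : Red.bc p (torus H) ⟶ sp A (DA A (Fin r → ℤ)) :=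
    Over.homMk (IsClosedImmersion.lift k.left j.left hle) (by
      rw [← Over.w k, IsClosedImmersion.lift_fac_assoc, Over.w j])
  have hb : b ≫ k = j := Over.OverMorphism.ext (IsClosedImmersion.lift_fac _ _ _)
  haveI : Mono j := by
    haveI : Mono ((Over.forget _).map j) := inferInstanceAs (Mono j.left)
    exact (Over.forget _).mono_of_mono_map ‹_›
  haveI : Mono k := by
    haveI : Mono ((Over.forget _).map k) := inferInstanceAs (Mono k.left)
    exact (Over.forget _).mono_of_mono_map ‹_›
  exact ⟨r, k, ⟨a, b, by rw [← cancel_mono k, Category.assoc, hb, ha, Category.id_comp],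
    by rw [← cancel_mono j, Category.assoc, ha, hb, Category.id_comp]⟩, inferInstance, ha⟩

end Groth.Agent.MultTorus
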